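import Mathlib

/-!
# Arithmetic for the semilinear case

`d = s / r`, `u` prime to `r`, `i = d u`.

* `fixed_sum`: sum over the fixed points of `j ↦ q ^ i j` on `ℤ / (q ^ s - 1)`;
* `pow_geom`: `∑ q ^ (i m)` and `(q ^ s - 1) / (q ^ d - 1)`;
* `pow_geom'`: the exponent of `β`;
* `exists_rep`: elements of `E = A ⟨t⟩`.
-/

set_option autoImplicit false

namespace Cfsg.Agent.H543.KGV

open Finset

theorem geom_mul {q : ℕ} (hq : 1 ≤ q) (n : ℕ) : (∑ i ∈ range n, q ^ i) * (q - 1) = q ^ n - 1 :=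
  geom_sum_mul_of_one_le hq n

theorem geom_mul_pow {q : ℕ} (hq : 1 ≤ q) (d n : ℕ) :
    (∑ i ∈ range n, q ^ (d * i)) * (q ^ d - 1) = q ^ (d * n) - 1 := by
  have := geom_mul (q := q ^ d) (Nat.one_le_pow _ _ hq) n
  simpa only [← pow_mul] using this

theorem pow_sub_one_pos {q n : ℕ} (hq : 2 ≤ q) (hn : 0 < n) : 0 < q ^ n - 1 := by
  have : 1 < q ^ n := Nat.one_lt_pow hn.ne' (by omega)
  omega

theorem div_eq_geom {q s r : ℕ} (hq : 2 ≤ q) (hs : 0 < s) (hr : r ∣ s) (hr0 : 0 < r) :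
    (q ^ s - 1) / (q ^ (s / r) - 1) = ∑ i ∈ range r, q ^ (s / r * i) := by
  have hd : 0 < s / r := Nat.div_pos (Nat.le_of_dvd hs hr) hr0
  have h := geom_mul_pow (q := q) (by omega) (s / r) r
  rw [Nat.div_mul_cancel hr] at h
  rw [← h]
  exact Nat.mul_div_cancel _ (pow_sub_one_pos hq hd)

theorem dvd_geom {q s r : ℕ} (hq : 2 ≤ q) (hr : r ∣ s) :
    (q ^ (s / r) - 1) ∣ (q ^ s - 1) := by
  have h := geom_mul_pow (q := q) (by omega) (s / r) r
  rw [Nat.div_mul_cancel hr] at h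
  rw [← h]
  exact Dvd.intro_left _ rfl

theorem gcd_eq {q s r u : ℕ} (hr : r ∣ s) (hr0 : 0 < r) (hu : u.Coprime r) :
    Nat.gcd (q ^ (s / r * u) - 1) (q ^ s - 1) = q ^ (s / r) - 1 := by
  rw [Nat.pow_sub_one_gcd_pow_sub_one]
  congr 2
  obtain ⟨d, rfl⟩ := hr
  rw [Nat.mul_div_cancel_left _ hr0, mul_comm r d, Nat.gcd_mul_left, hu, mul_one]

theorem nat_iff {g a n v : ℕ} (hg : Nat.gcd a n = g) (hpos : 0 < g) :
    n ∣ a * v ↔ n / g ∣ v := by
  have hga : g ∣ a := hg ▸ Nat.gcd_dvd_left a n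
  have hgn : g ∣ n := hg ▸ Nat.gcd_dvd_right a n
  have hcop : Nat.Coprime (a / g) (n / g) := by
    have := Nat.coprime_div_gcd_div_gcd (m := a) (n := n) (by rw [hg]; exact hpos)
    rwa [hg] at this
  obtain ⟨a', ha'⟩ := hga
  obtain ⟨n', hn'⟩ := hgn
  rw [ha', hn', Nat.mul_div_cancel_left _ hpos, Nat.mul_div_cancel_left _ hpos] at hcop
  rw [ha', hn', Nat.mul_div_cancel_left _ hpos, mul_assoc]
  constructor
  · intro h
    exact hcop.symm.dvd_of_dvd_mul_left (Nat.dvd_of_mul_dvd_mul_left hpos h)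
  · intro h
    exact Nat.mul_dvd_mul_left _ (Dvd.dvd.mul_left h _)

theorem fixed_iff {q s r u : ℕ} (hq : 2 ≤ q) (hs : 0 < s) (hr : r ∣ s) (hr0 : 0 < r)
    (hu : u.Coprime r) [NeZero (q ^ s - 1)] (j : ZMod (q ^ s - 1)) :
    (q : ZMod (q ^ s - 1)) ^ (s / r * u) * j = j ↔
      (q ^ s - 1) / (q ^ (s / r) - 1) ∣ j.val := by
  have hd : 0 < s / r := Nat.div_pos (Nat.le_of_dvd hs hr) hr0
  have hpos := pow_sub_one_pos hq hd
  have hposs := pow_sub_one_pos hq hs
  have h1 : (q : ZMod (q ^ s - 1)) ^ (s / r * u) * j = j ↔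
      (q ^ s - 1) ∣ (q ^ (s / r * u) - 1) * j.val := by
    have e : (((q ^ (s / r * u) - 1) * j.val : ℕ) : ZMod (q ^ s - 1)) =
        (q : ZMod (q ^ s - 1)) ^ (s / r * u) * j - j := by
      have h1 : 1 ≤ q ^ (s / r * u) := Nat.one_le_pow _ _ (by omega)
      push_cast [Nat.cast_sub h1]
      rw [ZMod.natCast_zmod_val]
      ring
    rw [← ZMod.natCast_eq_zero_iff, e, sub_eq_zero]
  rw [h1]
  exact nat_iff (gcd_eq hr hr0 hu) hpos

theorem fixed_sum {q s r u : ℕ} (hq : 2 ≤ q) (hs : 0 < s) (hr : r ∣ s) (hr0 : 0 < r)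
    (hu : u.Coprime r) [NeZero (q ^ s - 1)] (G : ZMod (q ^ s - 1) → ℂ) :
    ∑ j ∈ univ.filter (fun j : ZMod (q ^ s - 1) =>
        (q : ZMod (q ^ s - 1)) ^ (s / r * u) * j = j), G j =
      ∑ j ∈ range (q ^ (s / r) - 1),
        G (((q ^ s - 1) / (q ^ (s / r) - 1) * j : ℕ) : ZMod (q ^ s - 1)) := by
  classical
  have hd : 0 < s / r := Nat.div_pos (Nat.le_of_dvd hs hr) hr0
  have hpos := pow_sub_one_pos hq hd
  have hposs := pow_sub_one_pos hq hs
  set N := (q ^ s - 1) / (q ^ (s / r) - 1) with hN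
  have hNmul : N * (q ^ (s / r) - 1) = q ^ s - 1 := Nat.div_mul_cancel (dvd_geom hq hr)
  have hNpos : 0 < N := by
    rcases Nat.eq_zero_or_pos N with h | h
    · rw [h, zero_mul] at hNmul
      omega
    · exact h
  symm
  refine Finset.sum_bij (fun j _ => ((N * j : ℕ) : ZMod (q ^ s - 1))) ?_ ?_ ?_ ?_
  · intro j hj
    have hj' : N * j < q ^ s - 1 := by
      rw [← hNmul]
      exact Nat.mul_lt_mul_of_pos_left (mem_range.1 hj) hNpos
    rw [mem_filter]
    refine ⟨mem_univ _, ?_⟩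
    rw [fixed_iff hq hs hr hr0 hu, ZMod.val_natCast, Nat.mod_eq_of_lt hj', ← hN]
    exact Dvd.intro _ rfl
  · intro j hj j' hj' h
    have h1 : N * j < q ^ s - 1 := by
      rw [← hNmul]
      exact Nat.mul_lt_mul_of_pos_left (mem_range.1 hj) hNpos
    have h1' : N * j' < q ^ s - 1 := by
      rw [← hNmul]
      exact Nat.mul_lt_mul_of_pos_left (mem_range.1 hj') hNpos
    have h2 := congrArg ZMod.val h
    simp only [ZMod.val_natCast] at h2
    rw [Nat.mod_eq_of_lt h1, Nat.mod_eq_of_lt h1'] at h2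
    exact Nat.eq_of_mul_eq_mul_left hNpos h2
  · intro j hj
    rw [mem_filter, fixed_iff hq hs hr hr0 hu, ← hN] at hj
    obtain ⟨m, hm⟩ := hj.2
    refine ⟨m, ?_, ?_⟩
    · rw [mem_range]
      have h1 := ZMod.val_lt j
      rw [hm] at h1
      rw [← hNmul] at h1
      exact Nat.lt_of_mul_lt_mul_left h1
    · rw [← hm, ZMod.natCast_zmod_val]
  · intro j _
    rfl

theorem pow_pow_mod {q s r : ℕ} (hr : r ∣ s) {c : ℂ} (hc : c ^ (q ^ s - 1) = 1)
    (hq : 2 ≤ q) (a : ℕ) :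
    c ^ (q ^ (s / r * a)) = c ^ (q ^ (s / r * (a % r))) := by
  have hcs : c ^ (q ^ s) = c := by
    have h1 : 1 ≤ q ^ s := Nat.one_le_pow _ _ (by omega)
    calc c ^ (q ^ s) = c ^ (q ^ s - 1 + 1) := by rw [Nat.sub_add_cancel h1]
      _ = c := by rw [pow_succ, hc, one_mul]
  have hit : ∀ m : ℕ, c ^ (q ^ (s * m)) = c := by
    intro m
    induction m with
    | zero => simp
    | succ m ih => rw [Nat.mul_succ, pow_add, pow_mul, ih, hcs]
  have e : s / r * a = s * (a / r) + s / r * (a % r) := by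
    conv_lhs => rw [← Nat.div_add_mod a r]
    rw [mul_add, ← mul_assoc, Nat.div_mul_cancel hr]
  rw [e, pow_add, pow_mul, hit]

theorem pow_geom {q s r u : ℕ} (hq : 2 ≤ q) (hs : 0 < s) (hr : r ∣ s) (hr0 : 0 < r)
    (hu : u.Coprime r) {c : ℂ} (hc : c ^ (q ^ s - 1) = 1) :
    c ^ (∑ m ∈ range r, q ^ (s / r * u * m)) = c ^ ((q ^ s - 1) / (q ^ (s / r) - 1)) := by
  classical
  rw [div_eq_geom hq hs hr hr0, ← Finset.prod_pow_eq_pow_sum, ← Finset.prod_pow_eq_pow_sum]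
  have h1 : ∀ m ∈ range r, c ^ (q ^ (s / r * u * m)) = c ^ (q ^ (s / r * ((u * m) % r))) := by
    intro m _
    rw [mul_assoc, pow_pow_mod hr hc hq]
  rw [Finset.prod_congr rfl h1]
  have hinj : Set.InjOn (fun m => (u * m) % r) (range r : Set ℕ) := by
    intro a ha b hb h
    have ha' : a < r := by simpa using ha
    have hb' : b < r := by simpa using hb
    have h2 : u * a ≡ u * b [MOD r] := h
    have h3 : a ≡ b [MOD r] := Nat.ModEq.cancel_left_of_coprime (by rw [Nat.gcd_comm]; exact hu) h2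
    have h4 : a % r = b % r := h3
    rwa [Nat.mod_eq_of_lt ha', Nat.mod_eq_of_lt hb'] at h4
  have himg : (range r).image (fun m => (u * m) % r) = range r := by
    apply Finset.eq_of_subset_of_card_le
    · intro x hx
      rw [mem_image] at hx
      obtain ⟨m, _, rfl⟩ := hx
      rw [mem_range]
      exact Nat.mod_lt _ hr0
    · rw [Finset.card_image_of_injOn hinj]
  conv_rhs => rw [← himg]
  rw [Finset.prod_image hinj]

theorem pow_fix {q : ℕ} {c : ℂ} (hc : c ^ q = c) (m : ℕ) : c ^ (q ^ m) = c := by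
  induction m with
  | zero => simp
  | succ m ih => rw [pow_succ, pow_mul, ih, hc]

/-- The exponent of `β`. -/
theorem pow_geom' {q s r u : ℕ} (hq : 2 ≤ q) (hs : 0 < s) (hr : r ∣ s) (hr0 : 0 < r)
    {c β : ℂ} (hc : c ^ q = c) (hβ : β ^ ((q ^ s - 1) / (q - 1)) = c) :
    β ^ ((q ^ s - 1) / (q ^ (s / r) - 1) * ∑ w ∈ range (s / r * u), q ^ w) = c ^ u := by
  have hd : 0 < s / r := Nat.div_pos (Nat.le_of_dvd hs hr) hr0
  have hpos := pow_sub_one_pos hq hd
  have hposs := pow_sub_one_pos hq hs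
  have hpos1 : 0 < q - 1 := by omega
  have e : (q ^ s - 1) / (q ^ (s / r) - 1) * ∑ w ∈ range (s / r * u), q ^ w =
      (q ^ s - 1) / (q - 1) * ∑ v ∈ range u, q ^ (s / r * v) := by
    have h1 := geom_mul (q := q) (by omega) (s / r * u)
    have h2 := geom_mul_pow (q := q) (by omega) (s / r) u
    have h3 : (q ^ s - 1) / (q ^ (s / r) - 1) * (q ^ (s / r) - 1) = q ^ s - 1 :=
      Nat.div_mul_cancel (dvd_geom hq hr)
    have h4 : (q ^ s - 1) / (q - 1) * (q - 1) = q ^ s - 1 := by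
      apply Nat.div_mul_cancel
      rw [← geom_mul (q := q) (by omega) s]
      exact Dvd.intro_left _ rfl
    apply Nat.eq_of_mul_eq_mul_right (Nat.mul_pos hpos hpos1)
    calc (q ^ s - 1) / (q ^ (s / r) - 1) * (∑ w ∈ range (s / r * u), q ^ w) *
          ((q ^ (s / r) - 1) * (q - 1)) =
        ((q ^ s - 1) / (q ^ (s / r) - 1) * (q ^ (s / r) - 1)) *
          ((∑ w ∈ range (s / r * u), q ^ w) * (q - 1)) := by ring
      _ = ((q ^ s - 1) / (q - 1) * (q - 1)) *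
          ((∑ v ∈ range u, q ^ (s / r * v)) * (q ^ (s / r) - 1)) := by rw [h1, h2, h3, h4]
      _ = _ := by ring
  rw [e, pow_mul, hβ, ← Finset.prod_pow_eq_pow_sum]
  rw [Finset.prod_congr rfl (fun v _ => pow_fix hc (s / r * v)), Finset.prod_const, card_range]

section Rep

variable {E : Type*} [Group E] [Finite E] {A : Subgroup E} [A.Normal] {t : E}

theorem mk_mem_zpowers (ht : A ⊔ Subgroup.zpowers t = ⊤) (h : E) :
    (h : E ⧸ A) ∈ Subgroup.zpowers (t : E ⧸ A) := by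
  have h1 : h ∈ A ⊔ Subgroup.zpowers t := by rw [ht]; trivial
  have h2 := Subgroup.mem_map_of_mem (QuotientGroup.mk' A) h1
  have h3 : A.map (QuotientGroup.mk' A) = ⊥ := by
    rw [Subgroup.map_eq_bot_iff, QuotientGroup.ker_mk']
  rw [Subgroup.map_sup, h3, bot_sup_eq, MonoidHom.map_zpowers] at h2
  exact h2

theorem orderOf_mk (ht : A ⊔ Subgroup.zpowers t = ⊤) :
    orderOf (QuotientGroup.mk' A t) = A.index := by
  rw [← Nat.card_zpowers]
  have : Subgroup.zpowers (QuotientGroup.mk' A t) = ⊤ := by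
    rw [eq_top_iff]
    rintro ⟨h⟩ _
    exact mk_mem_zpowers ht h
  rw [this, Subgroup.card_top]
  rfl

theorem exists_rep (ht : A ⊔ Subgroup.zpowers t = ⊤) (h : E) :
    orderOf (QuotientGroup.mk' A h) ∣ A.index ∧
    ∃ (u : ℕ) (x : A), u.Coprime (orderOf (QuotientGroup.mk' A h)) ∧
      h = x * t ^ (A.index / orderOf (QuotientGroup.mk' A h) * u) := by
  classical
  have hord := orderOf_mk ht
  have hs0 : 0 < A.index := Nat.pos_of_ne_zero A.index_ne_zero_of_finite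
  obtain ⟨i, hi⟩ : ∃ i : ℕ, (QuotientGroup.mk' A t) ^ i = QuotientGroup.mk' A h := by
    have h1 := mk_mem_zpowers ht h
    exact (mem_powers_iff_mem_zpowers.2 h1)
  have hr : orderOf (QuotientGroup.mk' A h) = A.index / Nat.gcd A.index i := by
    rw [← hi, orderOf_pow, hord]
  have hg0 : 0 < Nat.gcd A.index i := Nat.gcd_pos_of_pos_left _ hs0
  have hdvd : Nat.gcd A.index i ∣ A.index := Nat.gcd_dvd_left _ _
  have hr1 : orderOf (QuotientGroup.mk' A h) ∣ A.index := by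
    rw [hr]
    exact Nat.div_dvd_of_dvd hdvd
  refine ⟨hr1, i / Nat.gcd A.index i, ?_⟩
  have hd : A.index / orderOf (QuotientGroup.mk' A h) = Nat.gcd A.index i := by
    rw [hr]
    exact Nat.div_div_self hdvd hs0.ne'
  have hmul : Nat.gcd A.index i * (i / Nat.gcd A.index i) = i :=
    Nat.mul_div_cancel' (Nat.gcd_dvd_right _ _)
  have hx : h * (t ^ i)⁻¹ ∈ A := by
    rw [← QuotientGroup.ker_mk' A, MonoidHom.mem_ker, map_mul, map_inv, map_pow, hi]
    exact mul_inv_cancel _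
  refine ⟨⟨_, hx⟩, ?_, ?_⟩
  · rw [hr]
    exact (Nat.coprime_div_gcd_div_gcd hg0).symm
  · rw [hd, hmul]
    simp

end Rep

end Cfsg.Agent.H543.KGV
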