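import Mathlib

/-!
# Extension of a homomorphism from a normal subgroup with cyclic quotient

`exists_ext`: `E = A ⟨t⟩`, `D : A →* M`, `B : M` with `B D(x) = D(t x t⁻¹) B` and `B ^ s = D (t ^ s)`
(`s` the order of `t` modulo `A`): there is `ρ : E →* M` with `ρ (x t ^ i) = D(x) B ^ i`.
-/

set_option autoImplicit false

namespace Cfsg.Agent.H543.KGV

section Ext

variable {E : Type*} [Group E] {A : Subgroup E} [A.Normal] {t : E} {M : Type*} [Monoid M]

theorem pow_mul_ext {D : A →* M} {B : M}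
    (hB : ∀ x y : A, (y : E) = t * x * t⁻¹ → B * D x = D y * B) (i : ℕ) :
    ∀ x y : A, (y : E) = t ^ i * x * (t ^ i)⁻¹ → B ^ i * D x = D y * B ^ i := by
  induction i with
  | zero =>
    intro x y h
    have : y = x := Subtype.ext (by simpa using h)
    simp [this]
  | succ i ih =>
    intro x y h
    have hz : t ^ i * (x : E) * (t ^ i)⁻¹ ∈ A := Subgroup.Normal.conj_mem ‹_› _ x.2 _
    have h1 := ih x ⟨_, hz⟩ rfl
    have h2 := hB ⟨_, hz⟩ y (by
      change (y : E) = t * (t ^ i * (x : E) * (t ^ i)⁻¹) * t⁻¹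
      rw [h, pow_succ']
      group)
    rw [pow_succ', mul_assoc, h1, ← mul_assoc, h2, mul_assoc]

theorem exists_ext (s : ℕ) (hs : ∀ i : ℕ, t ^ i ∈ A → s ∣ i)
    (hgen : ∀ h : E, ∃ (x : A) (i : ℕ), h = x * t ^ i)
    (D : A →* M) (B : M) (hB : ∀ x y : A, (y : E) = t * x * t⁻¹ → B * D x = D y * B)
    (hBs : ∃ c : A, (c : E) = t ^ s ∧ B ^ s = D c) :
    ∃ ρ : E →* M, ∀ (x : A) (i : ℕ), ρ (x * t ^ i) = D x * B ^ i := by
  classical
  obtain ⟨c, hc, hBc⟩ := hBs
  -- independence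
  have key : ∀ (x x' : A) (i i' : ℕ), i ≤ i' → (x : E) * t ^ i = x' * t ^ i' →
      D x * B ^ i = D x' * B ^ i' := by
    intro x x' i i' hii h
    obtain ⟨j, rfl⟩ := Nat.exists_eq_add_of_le hii
    have h1 : t ^ j = (x' : E)⁻¹ * x := by
      have : (x : E) * t ^ i = (x' * t ^ j) * t ^ i := by
        rw [h, mul_assoc, ← pow_add, add_comm i j]
      have h2 := mul_right_cancel this
      rw [h2]
      group
    have h2 : t ^ j ∈ A := by
      rw [h1]
      exact A.mul_mem (A.inv_mem x'.2) x.2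
    obtain ⟨m, rfl⟩ := hs _ h2
    have h3 : x = x' * c ^ m := Subtype.ext (by
      push_cast
      rw [hc, ← pow_mul, h1]
      group)
    rw [h3, map_mul, map_pow, ← hBc, ← pow_mul, mul_assoc, ← pow_add, add_comm i]
  have key' : ∀ (x x' : A) (i i' : ℕ), (x : E) * t ^ i = x' * t ^ i' →
      D x * B ^ i = D x' * B ^ i' := by
    intro x x' i i' h
    rcases le_total i i' with h1 | h1
    · exact key x x' i i' h1 h
    · exact (key x' x i' i h1 h.symm).symm
  choose X I hXI using hgen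
  have hρ : ∀ (x : A) (i : ℕ), D (X (x * t ^ i)) * B ^ (I (x * t ^ i)) = D x * B ^ i := by
    intro x i
    exact key' _ _ _ _ (hXI _).symm
  refine ⟨⟨⟨fun h => D (X h) * B ^ (I h), ?_⟩, ?_⟩, hρ⟩
  · have := hρ 1 0
    simpa using this
  · intro g h
    change D (X (g * h)) * B ^ (I (g * h)) = (D (X g) * B ^ (I g)) * (D (X h) * B ^ (I h))
    have hz : t ^ (I g) * (X h : E) * (t ^ (I g))⁻¹ ∈ A := Subgroup.Normal.conj_mem ‹_› _ (X h).2 _
    have e : g * h = ((X g * ⟨_, hz⟩ : A) : E) * t ^ (I g + I h) := by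
      conv_lhs => rw [hXI g, hXI h]
      push_cast
      rw [pow_add]
      group
    have h1 := hρ (X g * ⟨_, hz⟩) (I g + I h)
    rw [← e] at h1
    rw [h1, map_mul, pow_add]
    have h2 := pow_mul_ext hB (I g) (X h) ⟨_, hz⟩ rfl
    calc D (X g) * D ⟨_, hz⟩ * (B ^ I g * B ^ I h) = D (X g) * (D ⟨_, hz⟩ * B ^ I g) * B ^ I h := by
          simp only [mul_assoc]
      _ = _ := by rw [← h2]; simp only [mul_assoc]

end Ext

end Cfsg.Agent.H543.KGV
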